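import Cfsg.Agent.H419.TwoTrans
import Cfsg.Agent.S0366
import Cfsg.Agent.S0370
import Cfsg.Agent.S0371
import Cfsg.Agent.S0373
import Cfsg.Agent.KFacts.M24Two.Out

/-!
# Explicit elements of `M24`

* `T` : `x ↦ x + 1`, `M` : `x ↦ 2 x`, `C` : the cube twist.
* `C * T` has order 6 (type `1^2 2^2 3^2 6^2`), `C * M * T` has order 14 (type `1 2 7 14`).
* `evMix24` : the row of `M24`.
-/

set_option autoImplicit false

namespace Cfsg.Agent.H419.Spor.Mathieu

open Cfsg Cfsg.Agent.H713 Cfsg.Agent.H419.Row Cfsg.Agent.H419.Count Cfsg.Agent.H419.TwoTrans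

/-- `x ↦ x + 1`. -/
def T : Equiv.Perm GolayPt := Equiv.optionCongr (Equiv.addRight (1 : ZMod 23))

/-- `x ↦ 2 x`. -/
def M : Equiv.Perm GolayPt := Equiv.optionCongr (Units.mulLeft (ZMod.unitOfCoprime 2 (by decide)))

theorem T_mem : T ∈ M24 := Cfsg.Agent.S0370.result

theorem M_mem : M ∈ M24 := by
  refine Cfsg.Agent.S0371.result _ ⟨ZMod.unitOfCoprime 5 (by decide), ?_⟩
  decide

theorem C_mem : cubeTwist ∈ M24 := Cfsg.Agent.S0373.result

/-- Order from powers. -/
theorem orderOf_eq {G : Type*} [Group G] {g : G} {n : ℕ} (hn : 0 < n) (h : g ^ n = 1)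
    (h' : ∀ p ∈ n.primeFactors, g ^ (n / p) ≠ 1) : orderOf g = n := by
  apply orderOf_eq_of_pow_and_pow_div_prime hn h
  intro p hp hd
  exact h' p (Nat.mem_primeFactors.2 ⟨hp, hd, hn.ne'⟩)

/-- The element of order 14. -/
noncomputable def x14 : M24 := ⟨cubeTwist * M * T, mul_mem (mul_mem C_mem M_mem) T_mem⟩

theorem x14_order : orderOf x14 = 14 := by
  refine orderOf_eq (by norm_num) ?_ ?_
  · apply Subtype.ext
    show (cubeTwist * M * T) ^ 14 = 1
    apply Equiv.ext
    decide +kernel
  · intro p hp h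
    have h1 : (cubeTwist * M * T) ^ (14 / p) = 1 := congrArg Subtype.val h
    have h2 := Equiv.ext_iff.1 h1
    have h3 : p = 2 ∨ p = 7 := by
      have : p ∈ ({2, 7} : Finset ℕ) := by
        rw [show ({2, 7} : Finset ℕ) = (14 : ℕ).primeFactors by decide +kernel]
        exact hp
      simpa using this
    rcases h3 with rfl | rfl
    · revert h2
      decide +kernel
    · revert h2
      decide +kernel

theorem x14_fix : Nat.card (MulAction.fixedBy GolayPt x14) = 1 := by
  rw [Nat.card_eq_one_iff_exists]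
  have h : ∀ p : GolayPt, (cubeTwist * M * T) p = p ↔ p = none := by decide +kernel
  refine ⟨⟨none, (h none).2 rfl⟩, fun q => Subtype.ext ((h q).1 q.2)⟩

theorem evMix24 : EvMix M24 := by
  refine evMix_of_order (x := x14) (p := 7) (vz_of_inner ?_ ?_) (by norm_num) (by norm_num)
    x14_order
  · refine van_of_fix_one GolayPt ?_ ?_ x14_fix
    · have h5 := Cfsg.Agent.S0366.result
      exact MulAction.isMultiplyPretransitive_of_le (n := 5) (by norm_num) (by
        rw [Nat.card_eq_fintype_card]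
        decide)
    · rw [Nat.card_eq_fintype_card]
      decide
  · intro α
    exact Cfsg.Agent.KFacts.M24Two.Out.exists_conj α

end Cfsg.Agent.H419.Spor.Mathieu
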