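import Cfsg.Agent.H419.LeechFix
import Cfsg.Agent.H419.Spor.Mathieu
import Cfsg.Agent.S0372
import Cfsg.Agent.H847.Co1Small
import Cfsg.Agent.PermChar.SymAlt
import Cfsg.Agent.H714.RowTools
import Cfsg.Agent.S2069

/-!
# `Co1`: the character of degree 276 vanishes at elements of orders 6 and 12 of `M24`

The exterior square of the 24-dimensional character of `Co0` is a character of `Co1` of degree 276; it is
irreducible since representations of smaller degree are trivial (helper847).  Elements of type `6^4`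
and `12^2` of `M24` have no fixed points, neither have their squares.
-/

set_option autoImplicit false

universe u v

namespace Cfsg.Agent.H419.Spor.Co1

open Cfsg Cfsg.Agent.H713 Cfsg.Agent.H419.Row Cfsg.Agent.H419.Count Cfsg.Agent.H419.LeechFix
  Cfsg.Agent.H419.LeechIrr Cfsg.Agent.Characters.Core
open Cfsg.Agent.SporadicA.Co0Mono Cfsg.Agent.SporadicA.Co1Simple Cfsg.Agent.Co2Type.Mono
open Cfsg.Agent.H419.Spor.Mathieu
open Cfsg.Agent.CoOneType.CoOneE (pr)

/-- the character of degree 24 -/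
noncomputable def chi : Co0 → ℂ := lchi (MonoidHom.id Co0)

theorem chi_one : chi 1 = 24 := by
  show (tr8 1 : ℂ) / 8 = 24
  rw [Cfsg.Agent.SigZeroCo2.Lin.tr8_one]
  norm_num

theorem chi_neg : chi (signCo0 allOne) = -24 := by
  have h : ∀ i, ((signCo0 allOne • Cfsg.Agent.SporadicStructure.Co0Base.e8 i : leechLattice) : GolayPt → ℤ) i =
      -8 := by
    intro i
    rw [allOne_smul]
    show -((Cfsg.Agent.SporadicStructure.Co0Base.e8 i : leechLattice) : GolayPt → ℤ) i = -8
    rw [Cfsg.Agent.SporadicStructure.Co0Base.e8_coe, Pi.single_eq_same]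
  show (tr8 (signCo0 allOne) : ℂ) / 8 = -24
  unfold tr8
  rw [Finset.sum_congr rfl fun i _ => h i, Finset.sum_const, Finset.card_univ]
  have h24 : Fintype.card GolayPt = 24 := by decide
  rw [h24]
  norm_num

/-- the exterior square -/
noncomputable def psi (g : Co0) : ℂ := (chi g ^ 2 - chi (g * g)) / 2

theorem isCharacter_psi : IsCharacter Co0 psi :=
  Cfsg.Agent.PermChar.SymAlt.isCharacter_altSq (isCharacter_lchi (MonoidHom.id Co0))

theorem psi_one : psi 1 = 276 := by
  rw [psi, mul_one, chi_one]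
  norm_num

theorem psi_neg : psi (signCo0 allOne) = 276 := by
  rw [psi, signCo0_mul_self, chi_one, chi_neg]
  norm_num

theorem finite_co0 : Finite Co0 := Cfsg.Agent.CoOneType.FrameFix.finite_co0

/-- the exterior square as a character of `Co1` -/
theorem exists_character : ∃ θ : Spor.Co1 → ℂ, IsCharacter Spor.Co1 θ ∧ ∀ g : Co0, θ (pr g) = psi g := by
  have := finite_co0
  obtain ⟨n, ρ, hρ⟩ := isCharacter_psi
  have hn : (n : ℂ) = 276 := by
    have h1 : ρ.character 1 = (n : ℂ) := by
      rw [Representation.char_one]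
      simp
    rw [← h1, hρ, psi_one]
  have hker : ∀ z ∈ Subgroup.center Co0, ρ z = 1 := by
    intro z hz
    rcases (Cfsg.Agent.CoOneType.CoOneE.mem_center_iff z).1 hz with rfl | rfl
    · exact map_one ρ
    · have h1 := (Cfsg.Agent.S0139.result ρ (signCo0 allOne)).1 (by
        rw [hρ, psi_neg, Module.finrank_fin_fun, hn])
      rw [h1]
      rfl
  let ρ' : Representation ℂ Spor.Co1 (Fin n → ℂ) :=
    QuotientGroup.lift (Subgroup.center Co0) (ρ : Co0 →* Module.End ℂ (Fin n → ℂ)) hker
  refine ⟨ρ'.character, ⟨n, ρ', rfl⟩, fun g => ?_⟩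
  rw [← hρ]
  rfl

theorem finite_co1 : Finite Spor.Co1 := by
  have := finite_co0
  exact Finite.of_surjective pr Cfsg.Agent.CoOneType.CoOneE.pr_surjective

/-- The exterior square is irreducible if it vanishes somewhere. -/
theorem exists_irr {x : Co0} (hx : psi x = 0) :
    ∃ θ : IrrCharacter Spor.Co1, ∀ g : Co0, (θ : Spor.Co1 → ℂ) (pr g) = psi g := by
  classical
  have := finite_co1
  have : Finite (IrrCharacter Spor.Co1) := finite_irr
  have := Fintype.ofFinite (IrrCharacter Spor.Co1)
  obtain ⟨θ, hθ, h⟩ := exists_character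
  obtain ⟨m, hm⟩ := exists_nat_comb hθ
  have hval : ∀ g, θ g = ∑ η : IrrCharacter Spor.Co1, (m η : ℂ) * (η : Spor.Co1 → ℂ) g := by
    intro g
    rw [hm]
    simp [Finset.sum_apply]
  -- degrees
  have hdeg : ∀ η : IrrCharacter Spor.Co1, ∃ d : ℕ, (η : Spor.Co1 → ℂ) 1 = d ∧
      (d < 276 → ∀ g, (η : Spor.Co1 → ℂ) g = d) := by
    rintro ⟨η, n, ρ, hρ, rfl⟩
    have h1 : ∀ V : Module.End ℂ (Fin n → ℂ), V = 1 → LinearMap.trace ℂ _ V = (n : ℂ) := by
      rintro V rfl
      rw [LinearMap.trace_one]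
      simp
    refine ⟨n, h1 _ (map_one ρ), fun hd g => h1 _ ?_⟩
    exact Cfsg.Agent.H847.Co1Small.trivial_of_lt ρ (by rwa [Module.finrank_fin_fun]) g
  choose d hd1 hd2 using hdeg
  have hsum : ∑ η : IrrCharacter Spor.Co1, m η * d η = 276 := by
    have h1 := hval 1
    rw [show (1 : Spor.Co1) = pr 1 from (map_one pr).symm, h, psi_one, map_one] at h1
    have h2 : ((276 : ℕ) : ℂ) = ((∑ η : IrrCharacter Spor.Co1, m η * d η : ℕ) : ℂ) := by
      push_cast
      rw [h1]
      exact Finset.sum_congr rfl fun η _ => by rw [hd1]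
    exact_mod_cast h2.symm
  obtain ⟨η, hη, hη2⟩ : ∃ η : IrrCharacter Spor.Co1, m η ≠ 0 ∧ 276 ≤ d η := by
    by_contra hcon
    push Not at hcon
    have h1 := hval (pr x)
    rw [h, hx] at h1
    have h2 : ∑ η : IrrCharacter Spor.Co1, (m η : ℂ) * (η : Spor.Co1 → ℂ) (pr x) = 276 := by
      have h3 : ((∑ η : IrrCharacter Spor.Co1, m η * d η : ℕ) : ℂ) = 276 := by
        rw [hsum]; norm_num
      rw [← h3]
      push_cast
      refine Finset.sum_congr rfl fun η _ => ?_
      by_cases hη : m η = 0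
      · rw [hη]; simp
      · rw [hd2 η (hcon η hη)]
    rw [h2] at h1
    norm_num at h1
  refine ⟨η, fun g => ?_⟩
  have h1 : m η * d η ≤ 276 := by
    rw [← hsum]
    exact Finset.single_le_sum (f := fun η => m η * d η) (fun _ _ => Nat.zero_le _) (Finset.mem_univ η)
  have hmη : m η = 1 := by
    rcases Nat.lt_or_ge (m η) 2 with h2 | h2
    · omega
    · have : 2 * 276 ≤ m η * d η := Nat.mul_le_mul h2 hη2
      omega
  have h2 : ∑ ζ ∈ Finset.univ.erase η, m ζ * d ζ = 0 := by
    have h3 := Finset.add_sum_erase Finset.univ (fun η => m η * d η) (Finset.mem_univ η)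
    rw [hsum, hmη] at h3
    omega
  have h3 : ∀ ζ : IrrCharacter Spor.Co1, ζ ≠ η → m ζ = 0 := by
    intro ζ hζ
    have h4 := (Finset.sum_eq_zero_iff.1 h2) ζ (Finset.mem_erase.2 ⟨hζ, Finset.mem_univ ζ⟩)
    rcases Nat.mul_eq_zero.1 h4 with h5 | h5
    · exact h5
    · exfalso
      have h6 := hd1 ζ
      rw [h5, Nat.cast_zero] at h6
      exact isIrr_apply_one_ne_zero ζ.2 h6
  rw [← h, hval, Finset.sum_eq_single η]
  · rw [hmη, Nat.cast_one, one_mul]
  · intro ζ _ hζ
    rw [h3 ζ hζ, Nat.cast_zero, zero_mul]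
  · intro h4
    exact absurd (Finset.mem_univ η) h4

theorem psi_perm {σ : M24} (h1 : ∀ p, (σ : Equiv.Perm GolayPt) p ≠ p)
    (h2 : ∀ p, (σ : Equiv.Perm GolayPt) ((σ : Equiv.Perm GolayPt) p) ≠ p) : psi (permCo0 σ) = 0 := by
  have e1 : chi (permCo0 σ) = 0 := by
    rw [chi, lchi_perm (MonoidHom.id Co0) (g := permCo0 σ) (σ := σ) rfl]
    have : IsEmpty (MulAction.fixedBy GolayPt σ) := ⟨fun q => h1 q.1 q.2⟩
    simp
  have e2 : chi (permCo0 σ * permCo0 σ) = 0 := by
    rw [← map_mul, chi, lchi_perm (MonoidHom.id Co0) (g := permCo0 (σ * σ)) (σ := σ * σ) rfl]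
    have : IsEmpty (MulAction.fixedBy GolayPt (σ * σ)) := ⟨fun q => h2 q.1 q.2⟩
    simp
  rw [psi, e1, e2]
  norm_num

theorem J_mem : projInv ∈ M24 := Cfsg.Agent.S0372.result

/-- The element of order 6. -/
noncomputable def y6 : M24 := ⟨T * M * M * M * projInv,
  mul_mem (mul_mem (mul_mem (mul_mem T_mem M_mem) M_mem) M_mem) J_mem⟩

/-- The element of order 12. -/
noncomputable def y12 : M24 := ⟨T * T * T * projInv, mul_mem (mul_mem (mul_mem T_mem T_mem) T_mem) J_mem⟩

theorem y6_order : orderOf y6 = 6 := by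
  refine orderOf_eq (by norm_num) ?_ ?_
  · apply Subtype.ext
    show (T * M * M * M * projInv) ^ 6 = 1
    apply Equiv.ext
    decide +kernel
  · intro p hp h
    have h1 : (T * M * M * M * projInv) ^ (6 / p) = 1 := congrArg Subtype.val h
    have h2 := Equiv.ext_iff.1 h1
    have h3 : p = 2 ∨ p = 3 := by
      have : p ∈ ({2, 3} : Finset ℕ) := by
        rw [show ({2, 3} : Finset ℕ) = (6 : ℕ).primeFactors by decide +kernel]
        exact hp
      simpa using this
    rcases h3 with rfl | rfl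
    · revert h2
      decide +kernel
    · revert h2
      decide +kernel

theorem y12_order : orderOf y12 = 12 := by
  refine orderOf_eq (by norm_num) ?_ ?_
  · apply Subtype.ext
    show (T * T * T * projInv) ^ 12 = 1
    apply Equiv.ext
    decide +kernel
  · intro p hp h
    have h1 : (T * T * T * projInv) ^ (12 / p) = 1 := congrArg Subtype.val h
    have h2 := Equiv.ext_iff.1 h1
    have h3 : p = 2 ∨ p = 3 := by
      have : p ∈ ({2, 3} : Finset ℕ) := by
        rw [show ({2, 3} : Finset ℕ) = (12 : ℕ).primeFactors by decide +kernel]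
        exact hp
      simpa using this
    rcases h3 with rfl | rfl
    · revert h2
      decide +kernel
    · revert h2
      decide +kernel

theorem y6_fix : ∀ p, (y6 : Equiv.Perm GolayPt) p ≠ p := by
  show ∀ p, (T * M * M * M * projInv) p ≠ p
  decide +kernel

theorem y6_fix2 : ∀ p, (y6 : Equiv.Perm GolayPt) ((y6 : Equiv.Perm GolayPt) p) ≠ p := by
  show ∀ p, (T * M * M * M * projInv) ((T * M * M * M * projInv) p) ≠ p
  decide +kernel

theorem y12_fix : ∀ p, (y12 : Equiv.Perm GolayPt) p ≠ p := by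
  show ∀ p, (T * T * T * projInv) p ≠ p
  decide +kernel

theorem y12_fix2 : ∀ p, (y12 : Equiv.Perm GolayPt) ((y12 : Equiv.Perm GolayPt) p) ≠ p := by
  show ∀ p, (T * T * T * projInv) ((T * T * T * projInv) p) ≠ p
  decide +kernel

/-- The image of `M24` in `Co1` meets the centre trivially. -/
theorem pr_perm_injective : Function.Injective (pr.comp permCo0) := by
  rw [injective_iff_map_eq_one]
  intro σ h
  have h1 : pr (permCo0 σ) = pr 1 := h.trans (map_one pr).symm
  rcases (Cfsg.Agent.CoOneType.CoOneE.pr_eq_iff _ _).1 h1 with h2 | h2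
  · exact Cfsg.Agent.CoOneType.Thirteen.permCo0_injective (h2.symm.trans (map_one permCo0).symm)
  · exfalso
    -- `1 = σ * (-1)`: the trace of `σ` is nonnegative
    have h3 : permCo0 σ = signCo0 allOne := by
      have h4 : permCo0 σ * signCo0 allOne * signCo0 allOne = signCo0 allOne := by
        rw [← h2, one_mul]
      rwa [mul_assoc, signCo0_mul_self, mul_one] at h4
    have h5 : chi (permCo0 σ) = -24 := by rw [h3, chi_neg]
    rw [chi, lchi_perm (MonoidHom.id Co0) (g := permCo0 σ) (σ := σ) rfl] at h5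
    have h6 : (((Nat.card (MulAction.fixedBy GolayPt σ) : ℤ) + 24 : ℤ) : ℂ) = 0 := by
      push_cast
      rw [h5]
      norm_num
    have h7 : ((Nat.card (MulAction.fixedBy GolayPt σ) : ℤ) + 24 : ℤ) = 0 := by exact_mod_cast h6
    omega

theorem order6 : orderOf (pr (permCo0 y6)) = 6 := by
  have := orderOf_injective (pr.comp permCo0) pr_perm_injective y6
  rw [y6_order] at this
  exact this

theorem order12 : orderOf (pr (permCo0 y12)) = 12 := by
  have := orderOf_injective (pr.comp permCo0) pr_perm_injective y12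
  rw [y12_order] at this
  exact this

theorem vz {σ : M24} (h1 : ∀ p, (σ : Equiv.Perm GolayPt) p ≠ p)
    (h2 : ∀ p, (σ : Equiv.Perm GolayPt) ((σ : Equiv.Perm GolayPt) p) ≠ p) : VZ Spor.Co1 (pr (permCo0 σ)) := by
  obtain ⟨θ, hθ⟩ := exists_irr (psi_perm h1 h2)
  exact vz_of_inner ⟨θ, by rw [hθ, psi_perm h1 h2]⟩ (inner_of_out Cfsg.Agent.S2069.result)

theorem evMix : EvMix Spor.Co1 :=
  evMix_of_order (p := 3) (vz y6_fix y6_fix2) (by norm_num) (by norm_num) order6

theorem evMix_co1 {S : Type*} [Group S] (h : Spor.IsoCo1 S) : EvMix S := by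
  obtain ⟨e⟩ := h
  exact evMix.mulEquiv e.symm

theorem row_co1 {S : Type v} [Group S] (h : Spor.IsoCo1 S) : Row.{u, v} S := by
  obtain ⟨e⟩ := h
  have := finite_co1
  refine Row.mulEquiv ?_ e.symm
  exact Cfsg.Agent.H714.RowTools.row_of_orders (vz y6_fix y6_fix2) (vz y12_fix y12_fix2) (d := 3)
    (by norm_num) (by rw [order6]; norm_num) (by rw [order12]; norm_num) (by rw [order6, order12]; norm_num)

end Cfsg.Agent.H419.Spor.Co1
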