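import Cfsg.Agent.H419.Spor.Co3
import Cfsg.Agent.Leech.Trans
import Cfsg.Agent.BiChar.SmallCard
import Cfsg.Agent.Schreier.CoTwoStab
import Cfsg.Agent.S2070

/-!
# `Co2`: the character of degree 23 vanishes at the elements of order 14 of `M23`
-/

set_option autoImplicit false

namespace Cfsg.Agent.H419.Spor.Co2

open Cfsg Cfsg.Agent.H713 Cfsg.Agent.H419.Row Cfsg.Agent.H419.Count Cfsg.Agent.H419.LeechFix
  Cfsg.Agent.H419.LeechIrr
open Cfsg.Agent.SporadicA.Co0Mono Cfsg.Agent.SporadicA.Co1Simple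
open Cfsg.Agent.H419.Spor.Mathieu

/-- the vector `(-3, 1^23)` -/
def vecW : GolayPt → ℤ := fun p => if p = none then -3 else 1

theorem vecW_mem : vecW ∈ leechSet :=
  Spor.mem_leechSet_of_const_mod_four vecW 1 1 (by decide) (by decide) (by decide)

def leechW : leechLattice := ⟨vecW, AddSubgroup.subset_closure vecW_mem⟩

theorem exists_c : ∃ c : Co0, c • Spor.leechU = leechW := by
  refine Cfsg.Agent.Leech.Trans.co0_transitive_min _ _ ?_ ?_
  · show sqNorm Spor.vecU = 32
    decide +kernel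
  · show sqNorm vecW = 32
    decide +kernel

noncomputable def c : Co0 := exists_c.choose

theorem c_smul : c • Spor.leechU = leechW := exists_c.choose_spec

/-- the inclusion in `Co0`, up to conjugacy -/
noncomputable def inc : Spor.Co2 →* Co0 where
  toFun g := c * ⟨g.1, g.2.1⟩ * c⁻¹
  map_one' := by
    have : (⟨((1 : Spor.Co2) : Equiv.Perm leechLattice), (1 : Spor.Co2).2.1⟩ : Co0) = 1 := rfl
    rw [this]; group
  map_mul' a b := by
    have : (⟨((a * b : Spor.Co2) : Equiv.Perm leechLattice), (a * b : Spor.Co2).2.1⟩ : Co0) =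
      ⟨a.1, a.2.1⟩ * ⟨b.1, b.2.1⟩ := rfl
    rw [this]; group

theorem inc_injective : Function.Injective inc := fun a b h => by
  have h1 : (⟨a.1, a.2.1⟩ : Co0) = ⟨b.1, b.2.1⟩ := by
    have h2 : c * (⟨a.1, a.2.1⟩ : Co0) * c⁻¹ = c * ⟨b.1, b.2.1⟩ * c⁻¹ := h
    exact mul_left_cancel (mul_right_cancel h2)
  exact Subtype.ext (congrArg (fun z : Co0 => (z : Equiv.Perm leechLattice)) h1)

theorem inc_fix (g : Spor.Co2) : inc g • leechW = leechW := by
  have h1 : c⁻¹ • leechW = Spor.leechU := by rw [← c_smul, inv_smul_smul]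
  have h2 : (⟨g.1, g.2.1⟩ : Co0) • Spor.leechU = Spor.leechU := g.2.2
  show (c * (⟨g.1, g.2.1⟩ : Co0) * c⁻¹) • leechW = leechW
  rw [mul_smul, mul_smul, h1, h2, c_smul]

theorem perm_fix (s : St1) : permCo0 (s : M24) • leechW = leechW := by
  apply Subtype.ext
  rw [permCo0_smul]
  funext i
  have hs : ((s : M24) : Equiv.Perm GolayPt) none = none := s.2
  show vecW (((s : M24) : Equiv.Perm GolayPt).symm i) = vecW i
  unfold vecW
  have h1 : ((s : M24) : Equiv.Perm GolayPt).symm i = none ↔ i = none := by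
    rw [Equiv.symm_apply_eq, hs]
  by_cases h : i = none
  · rw [if_pos (h1.2 h), if_pos h]
  · rw [if_neg (fun h2 => h (h1.1 h2)), if_neg h]

/-- `M23` in `Co2`. -/
noncomputable def k : St1 →* Spor.Co2 where
  toFun s := ⟨(c⁻¹ * permCo0 (s : M24) * c).1, (c⁻¹ * permCo0 (s : M24) * c).2, by
    show (c⁻¹ * permCo0 (s : M24) * c) • Spor.leechU = Spor.leechU
    rw [mul_smul, mul_smul, c_smul, perm_fix, ← c_smul, inv_smul_smul]⟩
  map_one' := by
    apply Subtype.ext
    show (c⁻¹ * permCo0 ((1 : St1) : M24) * c).1 = 1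
    rw [Subgroup.coe_one, map_one, mul_one, inv_mul_cancel]
    rfl
  map_mul' a b := by
    apply Subtype.ext
    have h1 : permCo0 ((a * b : St1) : M24) = permCo0 (a : M24) * permCo0 (b : M24) := by
      rw [Subgroup.coe_mul, map_mul]
    have h2 : c⁻¹ * permCo0 ((a * b : St1) : M24) * c =
      (c⁻¹ * permCo0 (a : M24) * c) * (c⁻¹ * permCo0 (b : M24) * c) := by
      rw [h1]; group
    exact congrArg (fun z : Co0 => (z : Equiv.Perm leechLattice)) h2

theorem inc_k (s : St1) : inc (k s) = permCo0 (s : M24) := by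
  show c * (c⁻¹ * permCo0 (s : M24) * c) * c⁻¹ = _
  group

theorem order : orderOf (k Co3.y14) = 14 := by
  have h1 : orderOf (inc (k Co3.y14)) = 14 := by
    rw [inc_k, orderOf_injective permCo0 Cfsg.Agent.CoOneType.Thirteen.permCo0_injective]
    exact x14_order
  rwa [orderOf_injective inc inc_injective] at h1

theorem evMix : EvMix Spor.Co2 := by
  have hs : IsSimpleGroup Spor.Co2 := Cfsg.Agent.Schreier.CoTwoStab.isSimpleGroup
  have hcard : Nat.card Spor.Co2 = 42305421312000 := Cfsg.Agent.BiChar.Small.card_Co2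
  have hfin : Finite Spor.Co2 := Nat.finite_of_card_ne_zero (by rw [hcard]; norm_num)
  obtain ⟨μ, hμ⟩ := irr23 inc inc_injective (by rw [hcard]; norm_num) k ⟨Co3.y14, fun h => by
    have := order
    rw [h, orderOf_one] at this
    norm_num at this⟩ inc_k (w := leechW) (fun h => by
      have := congrArg (fun v : leechLattice => (v : GolayPt → ℤ) none) h
      exact absurd this (by decide)) inc_fix
  have hv : Van Spor.Co2 (k Co3.y14) := by
    refine ⟨μ, ?_⟩
    have h1 := hμ (k Co3.y14)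
    rw [lchi_perm inc (inc_k Co3.y14)] at h1
    have h2 : Nat.card (MulAction.fixedBy GolayPt ((Co3.y14 : St1) : M24)) = 1 := x14_fix
    rw [h2] at h1
    simpa using h1
  exact evMix_of_order (x := k Co3.y14) (p := 7) (vz_of_inner hv (inner_of_out Cfsg.Agent.S2070.result))
    (by norm_num) (by norm_num) order

end Cfsg.Agent.H419.Spor.Co2
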