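import Cfsg.Agent.H419.Spor.Mathieu
import Cfsg.Agent.Omega.TwoF.RowM12
import Cfsg.Agent.S0384
import Cfsg.Agent.Schreier.MEleven
import Cfsg.Agent.S0372

/-!
# `M12`: elements of order 6 with one fixed point on both dodecads
-/

set_option autoImplicit false

namespace Cfsg.Agent.H419.Spor.M12

open Cfsg Cfsg.Agent.H713 Cfsg.Agent.H419.Row Cfsg.Agent.H419.Count Cfsg.Agent.H419.TwoTrans
  Cfsg.Agent.H419.Spor.Mathieu
open scoped Pointwise

local notation "D" => Spor.squareDodecad

/-- The points of the dodecad. -/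
abbrev Pts := {p : GolayPt // p ∈ D}

theorem mem_iff {g : Equiv.Perm GolayPt} (hg : g • D = D) (p : GolayPt) : g p ∈ D ↔ p ∈ D := by
  conv_lhs => rw [← hg]
  rw [Finset.mem_smul_finset]
  constructor
  · rintro ⟨q, hq, h⟩
    have h' : g q = g p := h
    rwa [← g.injective h']
  · intro h
    exact ⟨p, h, rfl⟩

theorem smul_eq (g : Spor.M12) : (g : Equiv.Perm GolayPt) • D = D := g.2.2

noncomputable instance instMulActionPts : MulAction Spor.M12 Pts where
  smul g p := ⟨(g : Equiv.Perm GolayPt) p.1, (mem_iff (smul_eq g) p.1).2 p.2⟩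
  one_smul p := Subtype.ext rfl
  mul_smul g h p := Subtype.ext rfl

theorem smul_val (g : Spor.M12) (p : Pts) : (g • p).1 = (g : Equiv.Perm GolayPt) p.1 := rfl

theorem two_trans : MulAction.IsMultiplyPretransitive Spor.M12 Pts 2 := by
  have h5 : MulAction.IsMultiplyPretransitive Spor.M12 Pts 5 := by
    constructor
    intro x y
    let x' : Fin 5 ↪ GolayPt := x.trans (Function.Embedding.subtype _)
    let y' : Fin 5 ↪ GolayPt := y.trans (Function.Embedding.subtype _)
    obtain ⟨g, hg, -⟩ := Cfsg.Agent.S0384.result D Cfsg.Agent.Schreier.MEleven.squareDodecad_mem x' y'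
      (fun i => (x i).2) (fun i => (y i).2)
    refine ⟨⟨g.1.1, g.1.2, g.2⟩, ?_⟩
    apply DFunLike.ext
    intro i
    exact Subtype.ext (hg i)
  refine MulAction.isMultiplyPretransitive_of_le (n := 5) (by norm_num) ?_
  rw [Nat.card_eq_fintype_card]
  decide +kernel

theorem mem12 {g : Equiv.Perm GolayPt} (h : g ∈ M24) (h2 : ∀ p, p ∈ D → g p ∈ D) : g ∈ Spor.M12 := by
  refine ⟨h, ?_⟩
  show g • D = D
  apply Finset.eq_of_subset_of_card_le
  · intro x hx
    rw [Finset.mem_smul_finset] at hx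
    obtain ⟨y, hy, rfl⟩ := hx
    exact h2 y hy
  · rw [Finset.card_smul_finset]

noncomputable abbrev w6 : Equiv.Perm GolayPt := T⁻¹ * projInv * cubeTwist * T⁻¹ * projInv * M * T
noncomputable abbrev w8 : Equiv.Perm GolayPt := T⁻¹ * projInv * cubeTwist * T⁻¹ * projInv * M * T * M

theorem I_mem : projInv ∈ M24 := Cfsg.Agent.S0372.result

theorem w6_mem : w6 ∈ M24 :=
  mul_mem (mul_mem (mul_mem (mul_mem (mul_mem (mul_mem (inv_mem T_mem) I_mem) C_mem)
    (inv_mem T_mem)) I_mem) M_mem) T_mem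

noncomputable def x6 : Spor.M12 := ⟨w6, mem12 w6_mem (by decide +kernel)⟩
noncomputable def x8 : Spor.M12 := ⟨w8, mem12 (mul_mem w6_mem M_mem) (by decide +kernel)⟩

theorem x6_order : orderOf x6 = 6 := by
  refine orderOf_eq (by norm_num) ?_ ?_
  · apply Subtype.ext
    show w6 ^ 6 = 1
    apply Equiv.ext
    decide +kernel
  · intro p hp h
    have h1 : w6 ^ (6 / p) = 1 := congrArg Subtype.val h
    have h2 := Equiv.ext_iff.1 h1
    have h3 : p = 2 ∨ p = 3 := by
      have : p ∈ ({2, 3} : Finset ℕ) := by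
        rw [show ({2, 3} : Finset ℕ) = (6 : ℕ).primeFactors by decide +kernel]
        exact hp
      simpa using this
    rcases h3 with rfl | rfl
    · revert h2
      decide +kernel
    · revert h2
      decide +kernel

/-- The number of fixed points of a permutation on the dodecad. -/
def fx (g : Equiv.Perm GolayPt) : ℕ := (Finset.univ.filter (fun p : Pts => g p.1 = p.1)).card

theorem card_fixed (g : Spor.M12) : Nat.card (MulAction.fixedBy Pts g) = fx g := by
  rw [Nat.card_eq_fintype_card]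
  refine Fintype.card_of_subtype _ fun p => ?_
  rw [Finset.mem_filter]
  constructor
  · rintro ⟨-, h⟩
    exact Subtype.ext h
  · intro h
    exact ⟨Finset.mem_univ _, congrArg Subtype.val h⟩

/-- The conjugation by `projInv`. -/
noncomputable def bt : MulAut Spor.M12 where
  toFun g := ⟨projInv * g * projInv⁻¹, mem12 (mul_mem (mul_mem I_mem g.2.1) (inv_mem I_mem)) (by
    intro p hp
    have h1 : ∀ p : GolayPt, projInv p ∈ D ↔ p ∉ D := by decide +kernel
    have h2 : projInv⁻¹ = projInv := by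
      apply Equiv.ext
      decide +kernel
    rw [h2]
    simp only [Equiv.Perm.coe_mul, Function.comp_apply]
    rw [h1, mem_iff (smul_eq g), h1]
    simpa using hp)⟩
  invFun g := ⟨projInv⁻¹ * g * projInv, mem12 (mul_mem (mul_mem (inv_mem I_mem) g.2.1) I_mem) (by
    intro p hp
    have h1 : ∀ p : GolayPt, projInv p ∈ D ↔ p ∉ D := by decide +kernel
    have h2 : projInv⁻¹ = projInv := by
      apply Equiv.ext
      decide +kernel
    rw [h2]
    simp only [Equiv.Perm.coe_mul, Function.comp_apply]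
    rw [h1, mem_iff (smul_eq g), h1]
    simpa using hp)⟩
  left_inv g := Subtype.ext (by simp [mul_assoc])
  right_inv g := Subtype.ext (by simp [mul_assoc])
  map_mul' g h := Subtype.ext (by simp [mul_assoc])

theorem exists_th : ∃ θ : IrrCharacter Spor.M12, ∀ g, (θ : Spor.M12 → ℂ) g = (fx g : ℂ) - 1 := by
  obtain ⟨θ, hθ⟩ := exists_irr Pts two_trans (by rw [Nat.card_eq_fintype_card]; decide +kernel)
  exact ⟨θ, fun g => by rw [hθ, card_fixed]⟩

theorem bt_not_inner (m : Spor.M12) : bt ≠ MulAut.conj m := by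
  intro h
  obtain ⟨θ, hθ⟩ := exists_th
  have h1 : (θ : Spor.M12 → ℂ) (bt x8) = (θ : Spor.M12 → ℂ) x8 := by
    rw [h]
    exact Characters.Core.isIrr_isClassFunction θ.2 x8 m
  rw [hθ, hθ] at h1
  have h2 : fx (bt x8 : Spor.M12) = fx (x8 : Spor.M12) := by
    have := sub_left_inj.1 h1
    exact_mod_cast this
  have h3 : fx (x8 : Spor.M12) = 2 := by
    show fx w8 = 2
    decide +kernel
  have h4 : fx (bt x8 : Spor.M12) = 0 := by
    show fx (projInv * w8 * projInv⁻¹) = 0
    decide +kernel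
  omega

theorem mem_or (α : MulAut Spor.M12) : (∃ m, α = MulAut.conj m) ∨ ∃ m, α = MulAut.conj m * bt := by
  have h := Cfsg.Agent.Omega.TwoF.RowM12.index_dvd
  have h0 : bt ∉ (MulAut.conj : Spor.M12 →* MulAut Spor.M12).range := by
    rintro ⟨m, hm⟩
    exact bt_not_inner m hm.symm
  have h2 : (MulAut.conj : Spor.M12 →* MulAut Spor.M12).range.index = 2 := by
    rcases (Nat.dvd_prime Nat.prime_two).1 h with h1 | h1
    · rw [Subgroup.index_eq_one] at h1
      exact absurd (h1 ▸ Subgroup.mem_top _) h0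
    · exact h1
  by_cases hα : α ∈ (MulAut.conj : Spor.M12 →* MulAut Spor.M12).range
  · obtain ⟨m, hm⟩ := hα
    exact Or.inl ⟨m, hm.symm⟩
  · right
    have h3 : α * bt⁻¹ ∈ (MulAut.conj : Spor.M12 →* MulAut Spor.M12).range := by
      rw [Subgroup.mul_mem_iff_of_index_two h2]
      simp only [inv_mem_iff]
      exact ⟨fun h => absurd h hα, fun h => absurd h h0⟩
    obtain ⟨m, hm⟩ := h3
    exact ⟨m, by rw [hm]; group⟩

theorem vz : VZ Spor.M12 x6 := by
  obtain ⟨θ, hθ⟩ := exists_th
  refine ⟨θ, fun α => ?_⟩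
  rcases mem_or α with ⟨m, rfl⟩ | ⟨m, rfl⟩
  · have h1 : (θ : Spor.M12 → ℂ) (MulAut.conj m x6) = (θ : Spor.M12 → ℂ) x6 :=
      Characters.Core.isIrr_isClassFunction θ.2 x6 m
    rw [h1, hθ]
    have h3 : fx (x6 : Spor.M12) = 1 := by
      show fx w6 = 1
      decide +kernel
    rw [h3]
    simp
  · have h1 : (θ : Spor.M12 → ℂ) ((MulAut.conj m * bt) x6) = (θ : Spor.M12 → ℂ) (bt x6) :=
      Characters.Core.isIrr_isClassFunction θ.2 (bt x6) m
    rw [h1, hθ]
    have h3 : fx (bt x6 : Spor.M12) = 1 := by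
      show fx (projInv * w6 * projInv⁻¹) = 1
      decide +kernel
    rw [h3]
    simp

theorem evMix : EvMix Spor.M12 :=
  evMix_of_order (x := x6) (p := 3) vz (by norm_num) (by norm_num) x6_order

end Cfsg.Agent.H419.Spor.M12
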