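import Cfsg.Agent.H419.Spor.JModel
import Cfsg.Agent.KFacts.J2.Facts

/-! # The row of `J2` -/

set_option autoImplicit false

namespace Cfsg.Agent.H419.Spor.J2

open Cfsg Cfsg.Agent.H713 Cfsg.Agent.H419.Row Cfsg.Agent.H419.Count Subgroup
open Cfsg.Agent.KFacts.J2.Basic

theorem evMix {K : Type*} [Group K] [Finite K] (h : Spor.IsoJ2 K) : EvMix K := by
  obtain ⟨t, u, Q, v, ρ, D⟩ := Cfsg.Agent.KFacts.J2.Facts.exists_dat_of h
  have hcard := D.card
  refine Cfsg.Agent.H419.Spor.JModel.evMix_of_model rfl D.M D.cardC (fun α => D.isConj_aut α) ?_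
  have h1 := card_orders_succ_le (G := K) ({1, 2, 3, 4, 5, 6, 7, 8, 10, 12} : Finset ℕ) ?_ D.F.nconj
    (by rw [D.F.hz, D.F.hu])
  · have h2 : ({1, 2, 3, 4, 5, 6, 7, 8, 10, 12} : Finset ℕ).card = 10 := by decide
    omega
  · intro n hn
    by_cases h9 : n ∈ ({1, 2, 3, 4, 5, 6, 8, 10, 12} : Finset ℕ)
    · exact Cfsg.Agent.H419.Spor.JModel.exists_orders' D.M n h9
    · have h3 : n = 7 := by
        simp only [Finset.mem_insert, Finset.mem_singleton] at hn h9
        omega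
      subst h3
      have : Fact (Nat.Prime 7) := ⟨by norm_num⟩
      exact exists_prime_orderOf_dvd_card' 7 (by rw [hcard]; norm_num)

end Cfsg.Agent.H419.Spor.J2
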