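import Cfsg.Agent.H419.Spor.JModel
import Cfsg.Agent.CpAutJThree.Row

/-! # The row of `J3` -/

set_option autoImplicit false

namespace Cfsg.Agent.H419.Spor.J3

open Cfsg Cfsg.Agent.H713 Cfsg.Agent.H419.Row Cfsg.Agent.H419.Count Subgroup

theorem evMix {K : Type*} [Group K] [Finite K] (h : Spor.IsoJ3 K) : EvMix K := by
  obtain ⟨hcard, hM, hone, -⟩ := Cfsg.Agent.CpAutJThree.base h
  have : Fact (Nat.Prime 2) := ⟨by norm_num⟩
  obtain ⟨t, ht⟩ := exists_prime_orderOf_dvd_card' (G := K) 2 (by rw [hcard]; norm_num)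
  obtain ⟨-, hC, Q, v, ρ, M⟩ := hM t ht
  refine Cfsg.Agent.H419.Spor.JModel.evMix_of_model rfl M hC (fun α => hone _ _ ht ?_) ?_
  · rw [MulEquiv.orderOf_eq, ht]
  · have h1 := card_orders_le (G := K) ({1, 2, 3, 4, 5, 6, 8, 10, 12, 17, 19} : Finset ℕ) ?_
    · have h2 : ({1, 2, 3, 4, 5, 6, 8, 10, 12, 17, 19} : Finset ℕ).card = 11 := by decide
      omega
    · intro n hn
      by_cases h9 : n ∈ ({1, 2, 3, 4, 5, 6, 8, 10, 12} : Finset ℕ)
      · exact Cfsg.Agent.H419.Spor.JModel.exists_orders' M n h9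
      · have h3 : n = 17 ∨ n = 19 := by
          simp only [Finset.mem_insert, Finset.mem_singleton] at hn h9
          omega
        have hp : n.Prime := by rcases h3 with rfl | rfl <;> norm_num
        have : Fact n.Prime := ⟨hp⟩
        exact exists_prime_orderOf_dvd_card' n (by
          rw [hcard]
          rcases h3 with rfl | rfl <;> norm_num)

end Cfsg.Agent.H419.Spor.J3
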