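import Cfsg.Agent.H419.AutInv
import Cfsg.Agent.J2Type.Model

/-!
# Elements of orders 8, 10, 12 in the centralizer `2^{1+4}.A5`
-/

set_option autoImplicit false

namespace Cfsg.Agent.H419.Spor.JModel

open Cfsg Cfsg.Agent.H713 Cfsg.Agent.H419.Row Cfsg.Agent.H419.Count Subgroup
open Cfsg.Agent.J2Type.Model

variable {C : Type*} [Group C] {Q : Subgroup C} {z : C} {v : Fin 5 → C} {ρ : C →* SP}

/-- the 5-cycle -/
def c5 : Equiv.Perm (Fin 5) := finRotate 5

/-- the element of `SP` of order 5 -/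
def g5 : SP := ⟨c5, fun _ => 0⟩
/-- the element of `SP` whose preimages have order 8 -/
def g8 : SP := ⟨Equiv.swap 0 1 * Equiv.swap 2 3, ![1, 0, 0, 0, 1]⟩
/-- the element of `SP` whose preimages have order 12 -/
def g12 : SP := ⟨Equiv.swap 0 1 * Equiv.swap 1 2, ![0, 0, 0, 1, 1]⟩

theorem g5_pow : g5 ^ 5 = 1 := by decide +kernel
theorem g5_sq : g5 ^ 2 ≠ 1 := by decide +kernel
theorem g8_sq : g8 ^ 2 = ⟨1, ![1, 1, 0, 0, 0]⟩ := by decide +kernel
theorem g12_cube : g12 ^ 3 = ⟨1, ![0, 0, 0, 1, 1]⟩ := by decide +kernel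
theorem g12_four : g12 ^ 4 ≠ 1 := by decide +kernel

theorem cent_g5 : ∀ (σ : Equiv.Perm (Fin 5)) (s : Fin 5 → ZMod 2), σ * c5 = c5 * σ →
    (∀ i, s (c5 i) = s i) → ∑ i, s i = 0 →
    (σ = 1 ∧ s = 0) ∨ (σ = c5 ∧ s = 0) ∨ (σ = c5 ^ 2 ∧ s = 0) ∨ (σ = c5 ^ 3 ∧ s = 0) ∨
      (σ = c5 ^ 4 ∧ s = 0) := by decide +kernel

variable (M : IsModel Q z v ρ)
include M

theorem exists_lift (g : SP) (h1 : Equiv.Perm.sign g.σ = 1) (h2 : ∑ i, g.s i = 0) :
    ∃ c : C, ρ c = g := (M.range g).2 ⟨h1, h2⟩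

theorem pow_or {c : C} {n : ℕ} {g : SP} (hc : ρ c = g) (hg : g ^ n = 1) : c ^ n = 1 ∨ c ^ n = z :=
  (M.ker _).1 (by rw [map_pow, hc, hg])

theorem exists_ten : ∃ x : C, x ^ 5 = z ∧ ρ x = g5 := by
  obtain ⟨c, hc⟩ := exists_lift M g5 (by decide +kernel) (by decide +kernel)
  rcases pow_or M hc g5_pow with h | h
  · refine ⟨z * c, ?_, ?_⟩
    · rw [(show Commute z c from (M.z_comm c).symm).mul_pow, h, mul_one]
      have hz2 : z ^ 2 = 1 := by rw [pow_two, M.z_sq]
      calc z ^ 5 = (z ^ 2) ^ 2 * z := by rw [← pow_mul, ← pow_succ]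
        _ = z := by rw [hz2, one_pow, one_mul]
    · rw [map_mul, (M.ker z).2 (Or.inr rfl), one_mul, hc]
  · exact ⟨c, h, hc⟩

theorem cent_ten {x : C} (hx5 : x ^ 5 = z) (hx : ρ x = g5) {g : C} (hg : g * x = x * g) :
    g ∈ zpowers x := by
  have h1 : ρ g * g5 = g5 * ρ g := by rw [← hx, ← map_mul, ← map_mul, hg]
  have h2 : (ρ g).σ * c5 = c5 * (ρ g).σ := congrArg SP.σ h1
  have h3 : ∀ i, (ρ g).s (c5 i) = (ρ g).s i := by
    intro i
    have h4 := congrFun (congrArg SP.s h1) i
    rw [mul_s, mul_s] at h4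
    simpa [g5] using h4
  have h4 := (M.range (ρ g)).1 ⟨g, rfl⟩
  have key : ∀ k : ℕ, (ρ g).σ = c5 ^ k → (ρ g).s = 0 → g ∈ zpowers x := by
    intro k hk hs
    have h5 : ρ g = g5 ^ k := by
      have h6 : ∀ k : ℕ, g5 ^ k = ⟨c5 ^ k, fun _ => 0⟩ := by
        intro k
        induction k with
        | zero => rfl
        | succ k ih =>
          rw [pow_succ, ih]
          apply SP.ext
          · rw [mul_σ]
            exact (pow_succ c5 k).symm
          · funext i
            rw [mul_s]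
            rfl
      rw [h6]
      apply SP.ext
      · exact hk
      · rw [hs]; rfl
    have h7 : ρ (g * (x ^ k)⁻¹) = 1 := by rw [map_mul, map_inv, map_pow, hx, h5, mul_inv_cancel]
    rcases (M.ker _).1 h7 with h8 | h8
    · rw [mul_inv_eq_one] at h8
      rw [h8]
      exact pow_mem (mem_zpowers x) k
    · rw [mul_inv_eq_iff_eq_mul] at h8
      rw [h8, ← hx5]
      exact mul_mem (pow_mem (mem_zpowers x) 5) (pow_mem (mem_zpowers x) k)
  rcases cent_g5 _ _ h2 h3 h4.2 with h | h | h | h | h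
  · exact key 0 (by rw [h.1, pow_zero]) h.2
  · exact key 1 (by rw [h.1, pow_one]) h.2
  · exact key 2 h.1 h.2
  · exact key 3 h.1 h.2
  · exact key 4 h.1 h.2

theorem rho_vv (i j : Fin 5) (hij : i ≠ j) : (v i * v j) * (v i * v j) = z := by
  calc (v i * v j) * (v i * v j) = v i * (v j * v i) * v j := by group
    _ = v i * (z * (v i * v j)) * v j := by rw [M.v_anti j i hij.symm]
    _ = (v i * z) * v i * (v j * v j) := by group
    _ = (z * v i) * v i * (v j * v j) := by rw [M.z_comm]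
    _ = z * (v i * v i) * (v j * v j) := by group
    _ = z := by rw [M.v_sq, M.v_sq, mul_one, mul_one]

theorem rho_v (i : Fin 5) : ρ (v i) = ⟨1, fun j => if j = i then 0 else 1⟩ := by
  have hσ : (ρ (v i)).σ = 1 := (M.mem_Q _).1 (M.v_mem i)
  apply SP.ext
  · exact hσ
  · funext j
    have h1 := M.conj (v i) j
    rw [hσ] at h1
    simp only [Equiv.Perm.coe_one, id_eq] at h1
    show (ρ (v i)).s j = if j = i then 0 else 1
    by_cases hj : j = i
    · subst hj
      rw [if_pos rfl]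
      have h2 : zp z 0 * v j = zp z ((ρ (v j)).s j) * v j := by
        rw [← h1, zp_zero, one_mul, mul_inv_cancel_right]
      exact ((M.v_inj _ _ _ _ h2).1).symm
    · rw [if_neg hj]
      have h2 : zp z 1 * v j = zp z ((ρ (v i)).s j) * v j := by
        rw [← h1, zp_one, M.v_anti i j (Ne.symm hj)]
        group
      exact ((M.v_inj _ _ _ _ h2).1).symm

/-- If `ρ c ^ n` is the image of `v i * v j`, then `c ^ (2 * n) = z`. -/
theorem pow_eq_z {c : C} {n : ℕ} (i j : Fin 5) (hij : i ≠ j)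
    (h : ρ c ^ n = ⟨1, fun k => (if k = i then 0 else 1) + (if k = j then 0 else 1)⟩) :
    c ^ (2 * n) = z := by
  have h1 : ρ (v i * v j) = ρ (c ^ n) := by
    rw [map_mul, rho_v M, rho_v M, map_pow, h]
    apply SP.ext
    · rw [mul_σ, one_mul]
    · funext k
      rw [mul_s]
      show (if k = j then (0 : ZMod 2) else 1) + (if k = i then 0 else 1) = _
      rw [add_comm]
  have h2 : ρ (c ^ n * (v i * v j)⁻¹) = 1 := by rw [map_mul, map_inv, h1, mul_inv_cancel]
  rcases (M.ker _).1 h2 with h3 | h3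
  · rw [mul_inv_eq_one] at h3
    rw [mul_comm, pow_mul, h3, pow_two, rho_vv M i j hij]
  · rw [mul_inv_eq_iff_eq_mul] at h3
    rw [mul_comm, pow_mul, h3, pow_two]
    calc z * (v i * v j) * (z * (v i * v j)) = z * ((v i * v j) * z) * (v i * v j) := by group
      _ = z * (z * (v i * v j)) * (v i * v j) := by rw [M.z_comm]
      _ = (z * z) * ((v i * v j) * (v i * v j)) := by group
      _ = z := by rw [M.z_sq, one_mul, rho_vv M i j hij]

theorem exists_eight : ∃ x : C, x ^ 4 = z := by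
  obtain ⟨c, hc⟩ := exists_lift M g8 (by decide +kernel) (by decide +kernel)
  refine ⟨c, pow_eq_z M (n := 2) 0 1 (by decide) ?_⟩
  rw [hc]
  decide +kernel

theorem exists_twelve : ∃ x : C, x ^ 6 = z ∧ x ^ 4 ≠ 1 := by
  obtain ⟨c, hc⟩ := exists_lift M g12 (by decide +kernel) (by decide +kernel)
  refine ⟨c, pow_eq_z M (n := 3) 3 4 (by decide) ?_, fun h => ?_⟩
  · rw [hc]
    decide +kernel
  · apply g12_four
    rw [← hc, ← map_pow, h, map_one]

theorem orderOf_z : orderOf z = 2 := orderOf_eq_prime (by rw [pow_two, M.z_sq]) M.z_ne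

theorem orderOf_of_pow {x : C} {n : ℕ} (hn : 0 < n) (h : x ^ n = z)
    (h' : ∀ p, p.Prime → p ≠ 2 → p ∣ n → x ^ (2 * n / p) ≠ 1) : orderOf x = 2 * n := by
  apply orderOf_eq_of_pow_and_pow_div_prime (by omega)
  · rw [mul_comm, pow_mul, h, pow_two, M.z_sq]
  · intro p hp hd
    by_cases h2 : p = 2
    · subst h2
      rw [Nat.mul_div_cancel_left _ (by norm_num), h]
      exact M.z_ne
    · refine h' p hp h2 ?_
      exact (Nat.Coprime.dvd_mul_left ((Nat.coprime_primes hp Nat.prime_two).2 h2)).1 hd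

/-- Elements of order 8, 10, 12. -/
theorem exists_orders : (∃ x : C, orderOf x = 8) ∧ (∃ x : C, orderOf x = 12) ∧
    ∃ x : C, orderOf x = 10 ∧ x ^ 5 = z ∧ ∀ g : C, g * x = x * g → g ∈ zpowers x := by
  refine ⟨?_, ?_, ?_⟩
  · obtain ⟨x, hx⟩ := exists_eight M
    refine ⟨x, orderOf_of_pow M (n := 4) (by norm_num) hx fun p hp h2 hd => ?_⟩
    exact absurd ((Nat.prime_dvd_prime_iff_eq hp Nat.prime_two).1
      (hp.dvd_of_dvd_pow (show p ∣ 2 ^ 2 from hd))) h2
  · obtain ⟨x, hx, hx'⟩ := exists_twelve M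
    refine ⟨x, orderOf_of_pow M (n := 6) (by norm_num) hx fun p hp h2 hd => ?_⟩
    have h3 : p = 3 := by
      have : p ∣ 2 * 3 := hd
      rcases hp.dvd_mul.1 this with h | h
      · exact absurd ((Nat.prime_dvd_prime_iff_eq hp Nat.prime_two).1 h) h2
      · exact (Nat.prime_dvd_prime_iff_eq hp Nat.prime_three).1 h
    subst h3
    exact hx'
  · obtain ⟨x, hx, hx'⟩ := exists_ten M
    refine ⟨x, orderOf_of_pow M (n := 5) (by norm_num) hx fun p hp h2 hd => ?_, hx,
      fun g hg => cent_ten M hx hx' hg⟩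
    have h3 : p = 5 := (Nat.prime_dvd_prime_iff_eq hp Nat.prime_five).1 hd
    subst h3
    intro h
    apply g5_sq
    rw [← hx', ← map_pow]
    change x ^ 2 = 1 at h
    rw [h, map_one]

omit M in
/-- The row from an element of order 10 with small centralizer. -/
theorem evMix_of_ten {G : Type*} [Group G] [Finite G] {t x : G} (ht : orderOf t = 2)
    (hx : orderOf x = 10) (hx5 : x ^ 5 = t) (hle : centralizer ({x} : Set G) ≤ zpowers x)
    (hcard : Nat.card (centralizer ({t} : Set G)) = 1920) (hα : ∀ α : MulAut G, IsConj t (α t))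
    (hk : 10 < Nat.card (ConjClasses G)) : EvMix G := by
  have hy : orderOf (x ^ 6) = 5 := by
    rw [orderOf_pow' _ (by norm_num), hx]
    norm_num
  have hc : Commute t (x ^ 6) := by
    rw [← hx5]
    exact (Commute.refl x).pow_pow 5 6
  have hty : t * x ^ 6 = x := by
    rw [← hx5, ← pow_add, show 5 + 6 = orderOf x + 1 by rw [hx], pow_succ, pow_orderOf_eq_one,
      one_mul]
  refine Cfsg.Agent.H419.AutInv.evMix (p := 5) (by norm_num) (by norm_num) ht hy hc
    (by rw [hcard]; norm_num) hα ?_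
  rw [hty]
  refine van_of_card_lt (lt_of_le_of_lt ?_ hk)
  calc Nat.card (centralizer ({x} : Set G)) ≤ Nat.card (zpowers x) :=
        Subgroup.card_le_of_le hle
    _ = 10 := by rw [Nat.card_zpowers, hx]

omit M in
/-- The row from a model of the centralizer of `t`. -/
theorem evMix_of_model {G : Type*} [Group G] [Finite G] {t : G} {Q : Subgroup (centralizer ({t} : Set G))}
    {v : Fin 5 → centralizer ({t} : Set G)} {ρ : centralizer ({t} : Set G) →* SP}
    {z : centralizer ({t} : Set G)} (hz : (z : G) = t) (M : IsModel Q z v ρ)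
    (hcard : Nat.card (centralizer ({t} : Set G)) = 1920) (hα : ∀ α : MulAut G, IsConj t (α t))
    (hk : 10 < Nat.card (ConjClasses G)) : EvMix G := by
  obtain ⟨-, -, x, hx, hx5, hcx⟩ := exists_orders M
  have ht : orderOf t = 2 := by
    have h1 : orderOf (z : G) = 2 := by rw [Subgroup.orderOf_coe, orderOf_z M]
    rwa [hz] at h1
  have hx5' : (x : G) ^ 5 = t := (congrArg Subtype.val hx5).trans hz
  refine evMix_of_ten ht (x := (x : G)) (by rw [Subgroup.orderOf_coe, hx]) hx5' ?_ hcard hα hk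
  intro g hg
  have hg' : g * (x : G) = x * g := mem_centralizer_singleton_iff.1 hg
  have hgt : g ∈ centralizer ({t} : Set G) := by
    rw [mem_centralizer_singleton_iff]
    have h2 := ((show Commute g (x : G) from hg').pow_right 5).eq
    rwa [hx5'] at h2
  have h1 := hcx ⟨g, hgt⟩ (Subtype.ext hg')
  obtain ⟨k, hk⟩ := mem_zpowers_iff.1 h1
  exact mem_zpowers_iff.2 ⟨k, congrArg Subtype.val hk⟩

omit M in
/-- Orders of elements from the model. -/
theorem exists_orders' {G : Type*} [Group G] [Finite G] {t : G} {Q : Subgroup (centralizer ({t} : Set G))}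
    {v : Fin 5 → centralizer ({t} : Set G)} {ρ : centralizer ({t} : Set G) →* SP}
    {z : centralizer ({t} : Set G)} (M : IsModel Q z v ρ) :
    ∀ n ∈ ({1, 2, 3, 4, 5, 6, 8, 10, 12} : Finset ℕ), ∃ g : G, orderOf g = n := by
  obtain ⟨⟨a, ha⟩, ⟨b, hb⟩, x, hx, -, -⟩ := exists_orders M
  have ha' : orderOf (a : G) = 8 := by rw [Subgroup.orderOf_coe, ha]
  have hb' : orderOf (b : G) = 12 := by rw [Subgroup.orderOf_coe, hb]
  have hx' : orderOf (x : G) = 10 := by rw [Subgroup.orderOf_coe, hx]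
  intro n hn
  simp only [Finset.mem_insert, Finset.mem_singleton] at hn
  rcases hn with rfl | rfl | rfl | rfl | rfl | rfl | rfl | rfl | rfl
  · exact ⟨1, orderOf_one⟩
  · exact exists_order_of_dvd (x := (a : G)) (by rw [ha']; norm_num)
  · exact exists_order_of_dvd (x := (b : G)) (by rw [hb']; norm_num)
  · exact exists_order_of_dvd (x := (a : G)) (by rw [ha']; norm_num)
  · exact exists_order_of_dvd (x := (x : G)) (by rw [hx']; norm_num)
  · exact exists_order_of_dvd (x := (b : G)) (by rw [hb']; norm_num)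
  · exact ⟨a, ha'⟩
  · exact ⟨x, hx'⟩
  · exact ⟨b, hb'⟩

end Cfsg.Agent.H419.Spor.JModel
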