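import Cfsg.Agent.H419.Spor.M11
import Cfsg.Agent.H419.Spor.M12
import Cfsg.Agent.H419.Spor.M22
import Cfsg.Agent.H419.Spor.M23
import Cfsg.Agent.H419.Spor.Mathieu
import Cfsg.Agent.H419.Spor.J1
import Cfsg.Agent.H419.Spor.J2
import Cfsg.Agent.H419.Spor.J3
import Cfsg.Agent.H723.Spor.JFour
import Cfsg.Agent.H419.Spor.Co1
import Cfsg.Agent.H419.Spor.Co2
import Cfsg.Agent.H419.Spor.Co3
import Cfsg.Agent.H419.Spor.McL
import Cfsg.Agent.H419.Spor.HS
import Cfsg.Agent.H690.Spor.SuzRow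
import Cfsg.Agent.H710.Spor.Good
import Cfsg.Agent.H690.Spor.Ru
import Cfsg.Agent.H419.Spor.Fi
import Cfsg.Agent.H419.Spor.Baby
import Cfsg.Agent.H419.Spor.Monster
import Cfsg.Agent.UGT.End.MEleven
import Cfsg.Prelude.Def_Classification2

/-!
# The sporadic groups: `VZ` elements of even order, not involutions

`EvRow K` : there is a `VZ` element of even order different from 2.
`evRow_spor` : all sporadic groups; the rows of `HN`, `Th`, `ON` are hypotheses.
-/

set_option autoImplicit false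

namespace Cfsg.Agent.H419.Spor.Table

open Cfsg Cfsg.Agent.H713 Cfsg.Agent.H419.Row

universe u

/-- There is a `VZ` element of even order which is not an involution. -/
def EvRow (K : Type*) [Group K] : Prop := ∃ x : K, VZ K x ∧ 2 ∣ orderOf x ∧ orderOf x ≠ 2

theorem evRow_of_mix {K : Type*} [Group K] (h : EvMix K) : EvRow K := by
  obtain ⟨x, hx, h2, p, hp, hp2, hpx⟩ := h
  refine ⟨x, hx, h2, fun h => hp2 ?_⟩
  rw [h] at hpx
  exact (Nat.prime_dvd_prime_iff_eq hp Nat.prime_two).1 hpx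

theorem evRow_of_even {K : Type*} [Group K] (h : ∃ x : K, VZ K x ∧ 4 ≤ orderOf x ∧ Even (orderOf x)) :
    EvRow K := by
  obtain ⟨x, hx, h4, h2⟩ := h
  exact ⟨x, hx, even_iff_two_dvd.1 h2, by omega⟩

theorem EvRow.mulEquiv {K L : Type*} [Group K] [Group L] (e : K ≃* L) (h : EvRow K) : EvRow L := by
  obtain ⟨x, hx, h2, h3⟩ := h
  exact ⟨e x, hx.mulEquiv e, by rwa [MulEquiv.orderOf_eq], by rwa [MulEquiv.orderOf_eq]⟩

theorem evRow_spor {K : Type u} [Group K] [Finite K] (hON : Spor.IsoON K → EvRow K)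
    (hTh : Spor.IsoTh K → EvRow K) (hHN : Spor.IsoHN K → EvRow K) (h : IsSporadicGroup K) : EvRow K := by
  rcases h with h | h | h | h | h | h | h | h | h | h | h | h | h | h | h | h | h | h | h | h | h | h | h | h | h | h
  · exact evRow_of_mix (M11.evMix (Cfsg.Agent.UGT.End.MEleven.isM11 h))
  · obtain ⟨e⟩ := h
    exact evRow_of_mix (M12.evMix.mulEquiv e.symm)
  · obtain ⟨e⟩ := h
    exact evRow_of_mix (M22.evMix.mulEquiv e.symm)
  · obtain ⟨e⟩ := h
    exact evRow_of_mix (M23.evMix.mulEquiv e.symm)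
  · obtain ⟨e⟩ := h
    exact evRow_of_mix (Mathieu.evMix24.mulEquiv e.symm)
  · obtain ⟨e⟩ := h
    exact evRow_of_mix (J1.evMix.mulEquiv e.symm)
  · exact evRow_of_mix (J2.evMix h)
  · exact evRow_of_mix (J3.evMix h)
  · exact evRow_of_mix (Cfsg.Agent.H723.Spor.JFour.evMix_j4 h)
  · exact evRow_of_mix (Co1.evMix_co1 h)
  · obtain ⟨e⟩ := h
    exact evRow_of_mix (Co2.evMix.mulEquiv e.symm)
  · obtain ⟨e⟩ := h
    exact evRow_of_mix (Co3.evMix.mulEquiv e.symm)
  · exact evRow_of_mix (McL.evMix h)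
  · obtain ⟨e⟩ := h
    exact evRow_of_mix (HS.evMix.mulEquiv e.symm)
  · exact evRow_of_mix (Cfsg.Agent.H690.Spor.SuzRow.evMix h)
  · exact evRow_of_mix (Cfsg.Agent.H710.Spor.Good.evMix_he h)
  · exact evRow_of_mix (Cfsg.Agent.H690.Spor.Ru.evMix h)
  · exact hON h
  · exact evRow_of_mix (Cfsg.Agent.H710.Spor.Good.evMix_ly h)
  · exact evRow_of_mix (Fi.evMix_fi22 h)
  · exact evRow_of_mix (Fi.evMix_fi23 h)
  · exact evRow_of_mix (Fi.evMix_fi24 h)
  · exact hHN h
  · exact hTh h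
  · exact evRow_of_mix (Baby.evMix_b h)
  · exact evRow_of_mix (Monster.evMix_m h)

end Cfsg.Agent.H419.Spor.Table
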